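import Groth.Agent.Lib.Kleiman.CurveLift
import Groth.Agent.Lib.HodgeIndex.Pullback
import Groth.Agent.Lib.FGAInt26.BaseChange
import Groth.Prelude.Def_Pic13

/-!
Numerical equivalence of invertible modules under pullback.
-/

universe u

set_option backward.isDefEq.respectTransparency false
set_option linter.all false
set_option maxHeartbeats 400000

open CategoryTheory CategoryTheory.Limits AlgebraicGeometry TopologicalSpace
open GrothLib.Snapper (IsTop phi mixed ptMod)

noncomputable section

namespace GrothLib.NumPull26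

variable (k : Type u) [Field k] {X : Scheme.{u}} [X.Over (Spec (CommRingCat.of k))]
  [IsProper (X ↘ Spec (CommRingCat.of k))]

/-- Equal degree on all integral curves. -/
def NumEq (L N : X.Modules) : Prop :=
  ∀ (Y : Scheme.{u}) (ι : Y ⟶ X) [IsClosedImmersion ι], IsIntegral Y → topologicalKrullDim Y = 1 →
    Pic13.curveDeg k (ι ≫ (X ↘ Spec (CommRingCat.of k))) ((Scheme.Modules.pullback ι).obj L) =
      Pic13.curveDeg k (ι ≫ (X ↘ Spec (CommRingCat.of k))) ((Scheme.Modules.pullback ι).obj N)

variable {Y : Scheme.{u}} [IsIntegral Y] [Y.Over (Spec (CommRingCat.of k))]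
  [IsProper (Y ↘ Spec (CommRingCat.of k))] (g : Y ⟶ X)
  (hg : g ≫ X ↘ Spec (CommRingCat.of k) = Y ↘ Spec (CommRingCat.of k))
  (hdim : topologicalKrullDim Y = ((1 : ℕ) : WithBot ℕ∞))

include hg hdim in
/-- The degree of a pullback to a curve, contracted or not. -/
theorem curveDeg_pullback {L : X.Modules} (hL : PicF.IsInvertible L) :
    (Pic13.curveDeg k (Y ↘ Spec (CommRingCat.of k)) ((Scheme.Modules.pullback g).obj L) : ℚ) =
      (g.residueDegree (genericPoint Y) : ℚ) * mixed 1 (phi k 1 (fun _ => L) (ptMod (g (genericPoint Y)))) := by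
  have h1 := Snapper.mixed_eq_zero (Snapper.phi_pullback_sub_mem (k := k) (g := g) hg hdim (r := 1)
    (L := fun _ => L) (fun _ => hL))
  rw [map_sub, map_nsmul, sub_eq_zero, Kleiman.mixed_one_eq_curveDeg k (Kleiman.isInv_pullback g hL)
    (le_of_eq hdim), nsmul_eq_mul] at h1
  exact h1

include hg hdim in
theorem mixed_eq_of_curveDeg_eq {L N : X.Modules} (hL : PicF.IsInvertible L) (hN : PicF.IsInvertible N)
    (hw : IsTop 1 (g (genericPoint Y)))
    (h : Pic13.curveDeg k (Y ↘ Spec (CommRingCat.of k)) ((Scheme.Modules.pullback g).obj L) =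
      Pic13.curveDeg k (Y ↘ Spec (CommRingCat.of k)) ((Scheme.Modules.pullback g).obj N)) :
    mixed 1 (phi k 1 (fun _ => L) (ptMod (g (genericPoint Y)))) =
      mixed 1 (phi k 1 (fun _ => N) (ptMod (g (genericPoint Y)))) := by
  have e : ((Pic13.curveDeg k (Y ↘ Spec (CommRingCat.of k)) ((Scheme.Modules.pullback g).obj L) : ℤ) : ℚ) = _ :=
    congrArg Int.cast h
  rw [curveDeg_pullback k g hg hdim hL, curveDeg_pullback k g hg hdim hN] at e
  have hpos := (Kleiman.curveDeg_pullback_eq k hL g hg hdim hw).1
  exact mul_left_cancel₀ (by exact_mod_cast hpos.ne') e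

include hg hdim in
/-- Numerically equivalent modules have the same degree on every curve mapping to the scheme. -/
theorem curveDeg_eq_of_numEq {L N : X.Modules} (hL : PicF.IsInvertible L) (hN : PicF.IsInvertible N)
    (hnum : NumEq k L N) :
    Pic13.curveDeg k (Y ↘ Spec (CommRingCat.of k)) ((Scheme.Modules.pullback g).obj L) =
      Pic13.curveDeg k (Y ↘ Spec (CommRingCat.of k)) ((Scheme.Modules.pullback g).obj N) := by
  refine Int.cast_injective (α := ℚ) ?_
  rw [curveDeg_pullback k g hg hdim hL, curveDeg_pullback k g hg hdim hN]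
  by_cases hw : IsTop 1 (g (genericPoint Y))
  · let w := g (genericPoint Y)
    let I := Scheme.IdealSheafData.vanishingIdeal (⟨closure ({w} : Set X), isClosed_closure⟩ : Closeds X)
    letI : I.subscheme.Over (Spec (CommRingCat.of k)) := ⟨I.subschemeι ≫ X ↘ Spec (CommRingCat.of k)⟩
    haveI : IsProper (I.subscheme ↘ Spec (CommRingCat.of k)) :=
      inferInstanceAs (IsProper (I.subschemeι ≫ X ↘ Spec (CommRingCat.of k)))
    haveI : IsIntegral I.subscheme := Snapper.isIntegral_pt w
    have hd : topologicalKrullDim I.subscheme = ((1 : ℕ) : WithBot ℕ∞) := by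
      refine (IsHomeomorph.topologicalKrullDim_eq _
        I.subschemeι.isClosedEmbedding.isEmbedding.toHomeomorph.isHomeomorph).trans ?_
      rw [Snapper.range_pt]
      exact hw
    have hgp : I.subschemeι (genericPoint I.subscheme) = w := (inseparable_iff_closure_eq.2
      ((QCoh.closure_singleton_eq_range I.subschemeι).trans (Snapper.range_pt w))).eq
    have hm := mixed_eq_of_curveDeg_eq k I.subschemeι rfl hd hL hN (hgp.symm ▸ hw)
      (hnum I.subscheme I.subschemeι inferInstance hd)
    rw [hgp] at hm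
    rw [hm]
  · rw [Snapper.residueDegree_eq_zero (k := k) (g := g) hg hdim hw, Nat.cast_zero, zero_mul, zero_mul]

end GrothLib.NumPull26

namespace GrothLib.NumPull26

open CategoryTheory CategoryTheory.Limits AlgebraicGeometry

variable (k : Type u) [Field k]

theorem curveDeg_congr {Y : Scheme.{u}} (p : Y ⟶ Spec (CommRingCat.of k)) {A B : Y.Modules} (e : A ≅ B) :
    Pic13.curveDeg k p A = Pic13.curveDeg k p B :=
  congrArg (· - _) (@FGAInt26.eulerCharLE_congr k _ Y ⟨p⟩ A B e 1)

theorem curveDeg_pullback_comp {X X' Y : Scheme.{u}} (p : Y ⟶ Spec (CommRingCat.of k)) (h : Y ⟶ X')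
    (g : X' ⟶ X) (L : X.Modules) :
    Pic13.curveDeg k p ((Scheme.Modules.pullback h).obj ((Scheme.Modules.pullback g).obj L)) =
      Pic13.curveDeg k p ((Scheme.Modules.pullback (h ≫ g)).obj L) :=
  curveDeg_congr k p ((Scheme.Modules.pullbackComp h g).app L)

end GrothLib.NumPull26
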